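import Groth.Agent.Lib.Helper2.K0Der.Basic

/-!
# `K₀(P) ≃ K₀(D^b_P(C))`: the derived category part (helper2)
-/

set_option autoImplicit false
universe w v u

namespace Groth.Agent.Lib.Helper2.K0Der

open CategoryTheory CategoryTheory.Limits Pretriangulated ZeroObject DerivedCategory
open Groth.Agent.Lib.Helper2

variable {C : Type u} [Category.{v} C] [Abelian C] [HasDerivedCategory.{w} C]

/-- boundedness for the canonical t-structure. -/
def Bdd (K : DerivedCategory C) : Prop :=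
  ∃ a b : ℤ, (TStructure.t (C := C)).IsGE K a ∧ (TStructure.t (C := C)).IsLE K b

lemma Bdd.isZero {K : DerivedCategory C} (h : Bdd K) :
    ∃ a b : ℤ, ∀ i, i < a ∨ b < i → IsZero ((homologyFunctor C i).obj K) := by
  obtain ⟨a, b, h1, h2⟩ := h
  exact ⟨a, b, fun i hi => hi.elim (fun h => K.isZero_of_isGE a i h)
    (fun h => K.isZero_of_isLE b i h)⟩

/-! ### truncation triangles and cohomology -/

lemma isIso_mor₁ (T : Triangle (DerivedCategory C)) (hT : T ∈ distTriang _) (n : ℤ)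
    [T.obj₁.IsLE n] [T.obj₃.IsGE (n + 1)] (i : ℤ) (hi : i ≤ n) :
    IsIso ((homologyFunctor C i).map T.mor₁) := by
  haveI : Mono ((homologyFunctor C i).map T.mor₁) :=
    (HomologySequence.mono_homologyMap_mor₁_iff T hT (i - 1) i (by omega)).2
      ((isZero_of_isGE T.obj₃ (n + 1) (i - 1) (by omega)).eq_of_src _ _)
  haveI : Epi ((homologyFunctor C i).map T.mor₁) :=
    (HomologySequence.epi_homologyMap_mor₁_iff T hT i).2
      ((isZero_of_isGE T.obj₃ (n + 1) i (by omega)).eq_of_tgt _ _)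
  exact isIso_of_mono_of_epi _

lemma isIso_mor₂ (T : Triangle (DerivedCategory C)) (hT : T ∈ distTriang _) (n : ℤ)
    [T.obj₁.IsLE n] [T.obj₃.IsGE (n + 1)] (i : ℤ) (hi : n < i) :
    IsIso ((homologyFunctor C i).map T.mor₂) := by
  haveI : Mono ((homologyFunctor C i).map T.mor₂) :=
    (HomologySequence.mono_homologyMap_mor₂_iff T hT i).2
      ((isZero_of_isLE T.obj₁ n i hi).eq_of_src _ _)
  haveI : Epi ((homologyFunctor C i).map T.mor₂) :=
    (HomologySequence.epi_homologyMap_mor₂_iff T hT i (i + 1) rfl).2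
      ((isZero_of_isLE T.obj₁ n (i + 1) (by omega)).eq_of_tgt _ _)
  exact isIso_of_mono_of_epi _

variable (P : ObjectProperty C)

/-- the Euler characteristic `∑ (-1)^i [H^i K]`. -/
noncomputable def chi0 (K : DerivedCategory C) : KZero.K0sub P :=
  ∑ᶠ i : ℤ, sgn i • KZero.clSub P ((homologyFunctor C i).obj K)

variable [P.IsClosedUnderIsomorphisms] [P.ContainsZero]

lemma chi0_single (X : C) : chi0 P ((singleFunctor C 0).obj X) = KZero.clSub P X := by
  have h0 : ∀ i : ℤ, i ≠ 0 →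
      sgn i • KZero.clSub P ((homologyFunctor C i).obj ((singleFunctor C 0).obj X)) = 0 := by
    intro i hi
    have hz : IsZero ((homologyFunctor C i).obj ((singleFunctor C 0).obj X)) := by
      rcases lt_or_gt_of_ne hi with h | h
      · exact isZero_of_isGE _ 0 i h
      · exact isZero_of_isLE _ 0 i h
    rw [clSub_of_isZero P hz, smul_zero]
  unfold chi0
  rw [finsum_eq_single _ 0 h0, sgn_zero, one_smul]
  exact clSub_iso P ((singleFunctorCompHomologyFunctorIso C 0).app X)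

section

variable [P.IsClosedUnderKernels]

lemma chi0_add (T : Triangle (DerivedCategory C)) (hT : T ∈ distTriang _)
    (h₁ : ∀ i, P ((homologyFunctor C i).obj T.obj₁)) (b₁ : Bdd T.obj₁)
    (h₂ : ∀ i, P ((homologyFunctor C i).obj T.obj₂)) (b₂ : Bdd T.obj₂)
    (h₃ : ∀ i, P ((homologyFunctor C i).obj T.obj₃)) (b₃ : Bdd T.obj₃) :
    chi0 P T.obj₂ = chi0 P T.obj₁ + chi0 P T.obj₃ :=
  les_sum P (fun i => (homologyFunctor C i).map T.mor₁)
    (fun i => (homologyFunctor C i).map T.mor₂)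
    (fun i => HomologySequence.δ T i (i + 1) rfl)
    (fun i => by rw [← Functor.map_comp, comp_distTriang_mor_zero₁₂ _ hT, Functor.map_zero])
    (fun i => HomologySequence.comp_δ T hT i (i + 1) rfl)
    (fun i => HomologySequence.δ_comp T hT i (i + 1) rfl)
    (fun i => HomologySequence.exact₂ T hT i)
    (fun i => HomologySequence.exact₃ T hT i (i + 1) rfl)
    (fun i => HomologySequence.exact₁ T hT i (i + 1) rfl)
    h₁ h₂ h₃ b₁.isZero b₂.isZero b₃.isZero

end

/-! ### the class `Q` of bounded complexes with cohomology in `P` -/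

variable (Q : ObjectProperty (DerivedCategory C))
  (hQ : ∀ K, Q K ↔ (∀ i, P ((homologyFunctor C i).obj K)) ∧ Bdd K)

include hQ

lemma Q_single (a : ℤ) (Y : C) (hY : P Y) : Q ((singleFunctor C a).obj Y) := by
  refine (hQ _).2 ⟨fun i => ?_, a, a, inferInstance, inferInstance⟩
  by_cases h : i = a
  · subst h
    exact P.prop_of_iso ((singleFunctorCompHomologyFunctorIso C i).app Y).symm hY
  · apply P.prop_of_isZero
    rcases lt_or_gt_of_ne h with h | h
    · exact isZero_of_isGE _ a i h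
    · exact isZero_of_isLE _ a i h

lemma Q_iso {K L : DerivedCategory C} (e : K ≅ L) (hK : Q K) : Q L := by
  obtain ⟨h1, a, b, h2, h3⟩ := (hQ K).1 hK
  exact (hQ L).2 ⟨fun i => P.prop_of_iso ((homologyFunctor C i).mapIso e) (h1 i), a, b,
    TStructure.t.isGE_of_iso e a, TStructure.t.isLE_of_iso e b⟩

lemma Q_zero : Q (0 : DerivedCategory C) :=
  Q_iso P Q hQ (IsZero.isoZero ((singleFunctor C 0).map_isZero (isZero_zero C)))
    (Q_single P Q hQ 0 0 P.prop_zero)

lemma Q_trunc₁ (T : Triangle (DerivedCategory C)) (hT : T ∈ distTriang _) (n : ℤ)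
    [T.obj₁.IsLE n] [T.obj₃.IsGE (n + 1)] (a : ℤ) (hK : Q T.obj₂) [T.obj₂.IsGE a] :
    Q T.obj₁ ∧ T.obj₁.IsGE a := by
  obtain ⟨p, -⟩ := (hQ _).1 hK
  have hz : ∀ i, n < i → IsZero ((homologyFunctor C i).obj T.obj₁) :=
    fun i hi => isZero_of_isLE _ n i hi
  have hiso : ∀ i, i ≤ n →
      Nonempty ((homologyFunctor C i).obj T.obj₁ ≅ (homologyFunctor C i).obj T.obj₂) :=
    fun i hi => by
      haveI := isIso_mor₁ T hT n i hi
      exact ⟨asIso ((homologyFunctor C i).map T.mor₁)⟩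
  have hGE : T.obj₁.IsGE a := by
    rw [isGE_iff]
    intro i hi
    by_cases h : i ≤ n
    · obtain ⟨e⟩ := hiso i h
      exact (isZero_of_isGE T.obj₂ a i hi).of_iso e
    · exact hz i (by omega)
  refine ⟨(hQ _).2 ⟨fun i => ?_, a, n, hGE, inferInstance⟩, hGE⟩
  by_cases h : i ≤ n
  · obtain ⟨e⟩ := hiso i h
    exact P.prop_of_iso e.symm (p i)
  · exact P.prop_of_isZero (hz i (by omega))

lemma Q_trunc₃ (T : Triangle (DerivedCategory C)) (hT : T ∈ distTriang _) (n : ℤ)
    [T.obj₁.IsLE n] [T.obj₃.IsGE (n + 1)] (b : ℤ) (hK : Q T.obj₂) [T.obj₂.IsLE b] :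
    Q T.obj₃ ∧ T.obj₃.IsLE b := by
  obtain ⟨p, -⟩ := (hQ _).1 hK
  have hz : ∀ i, i ≤ n → IsZero ((homologyFunctor C i).obj T.obj₃) :=
    fun i hi => isZero_of_isGE _ (n + 1) i (by omega)
  have hiso : ∀ i, n < i →
      Nonempty ((homologyFunctor C i).obj T.obj₂ ≅ (homologyFunctor C i).obj T.obj₃) :=
    fun i hi => by
      haveI := isIso_mor₂ T hT n i hi
      exact ⟨asIso ((homologyFunctor C i).map T.mor₂)⟩
  have hLE : T.obj₃.IsLE b := by
    rw [isLE_iff]
    intro i hi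
    by_cases h : n < i
    · obtain ⟨e⟩ := hiso i h
      exact (isZero_of_isLE T.obj₂ b i hi).of_iso e.symm
    · exact hz i (by omega)
  refine ⟨(hQ _).2 ⟨fun i => ?_, n + 1, b, inferInstance, hLE⟩, hLE⟩
  by_cases h : n < i
  · obtain ⟨e⟩ := hiso i h
    exact P.prop_of_iso e (p i)
  · exact P.prop_of_isZero (hz i (by omega))

/-! ### the two homomorphisms -/

/-- `[X] ↦ [X[0]]`. -/
noncomputable def phi : KZero.K0sub P →+ KZero.K0tr Q :=
  QuotientAddGroup.lift _
    (FreeAbelianGroup.lift fun X : Subtype P => KZero.clTr Q ((singleFunctor C 0).obj X.1)) (by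
    rw [KZero.relSub, AddSubgroup.closure_le]
    rintro x ⟨S, h₁, h₂, h₃, hS, rfl⟩
    change FreeAbelianGroup.lift _ _ = 0
    rw [map_sub, map_sub, FreeAbelianGroup.lift_apply_of, FreeAbelianGroup.lift_apply_of,
      FreeAbelianGroup.lift_apply_of]
    have h := clTr_add Q hS.singleTriangle hS.singleTriangle_distinguished
      (Q_single P Q hQ 0 _ h₁) (Q_single P Q hQ 0 _ h₂) (Q_single P Q hQ 0 _ h₃)
    change KZero.clTr Q ((singleFunctor C 0).obj S.X₂) =
      KZero.clTr Q ((singleFunctor C 0).obj S.X₁) + KZero.clTr Q ((singleFunctor C 0).obj S.X₃) at h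
    rw [h]
    abel)

lemma phi_clSub (X : C) (hX : P X) :
    phi P Q hQ (KZero.clSub P X) = KZero.clTr Q ((singleFunctor C 0).obj X) := by
  rw [clSub_eq P hX]
  change QuotientAddGroup.lift _ _ _ (QuotientAddGroup.mk _) = _
  rw [QuotientAddGroup.lift_mk, FreeAbelianGroup.lift_apply_of]

variable [P.IsClosedUnderKernels]

/-- the Euler characteristic `K₀(Q) ⟶ K₀(P)`. -/
noncomputable def chi : KZero.K0tr Q →+ KZero.K0sub P :=
  QuotientAddGroup.lift _ (FreeAbelianGroup.lift fun K : Subtype Q => chi0 P K.1) (by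
    rw [KZero.relTr, AddSubgroup.closure_le]
    rintro x ⟨T, h₁, h₂, h₃, hT, rfl⟩
    change FreeAbelianGroup.lift _ _ = 0
    rw [map_sub, map_sub, FreeAbelianGroup.lift_apply_of, FreeAbelianGroup.lift_apply_of,
      FreeAbelianGroup.lift_apply_of]
    obtain ⟨p₁, b₁⟩ := (hQ _).1 h₁
    obtain ⟨p₂, b₂⟩ := (hQ _).1 h₂
    obtain ⟨p₃, b₃⟩ := (hQ _).1 h₃
    change chi0 P T.obj₂ - chi0 P T.obj₁ - chi0 P T.obj₃ = 0
    rw [chi0_add P T hT p₁ b₁ p₂ b₂ p₃ b₃]
    abel)

lemma chi_clTr (K : DerivedCategory C) (hK : Q K) :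
    chi P Q hQ (KZero.clTr Q K) = chi0 P K := by
  rw [clTr_eq Q hK]
  change QuotientAddGroup.lift _ _ _ (QuotientAddGroup.mk _) = _
  rw [QuotientAddGroup.lift_mk, FreeAbelianGroup.lift_apply_of]

lemma chi_phi (z : KZero.K0sub P) : chi P Q hQ (phi P Q hQ z) = z := by
  have hcomp : (chi P Q hQ).comp (phi P Q hQ) = AddMonoidHom.id _ := by
    apply QuotientAddGroup.addMonoidHom_ext
    apply FreeAbelianGroup.lift_ext
    rintro ⟨X, hX⟩
    change chi P Q hQ (phi P Q hQ (K0Res.cl P X hX)) = K0Res.cl P X hX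
    rw [← clSub_eq P hX, phi_clSub P Q hQ X hX, chi_clTr P Q hQ _ (Q_single P Q hQ 0 X hX),
      chi0_single]
  exact DFunLike.congr_fun hcomp z

/-! ### surjectivity -/

lemma single_mem (a : ℤ) (Y : C) (hY : P Y) :
    KZero.clTr Q ((singleFunctor C a).obj Y) ∈ (phi P Q hQ).range := by
  induction a using Int.induction_on with
  | zero => exact ⟨KZero.clSub P Y, phi_clSub P Q hQ Y hY⟩
  | succ n ih =>
    have e : ((singleFunctor C ((n : ℤ) + 1)).obj Y)⟦(1 : ℤ)⟧ ≅ (singleFunctor C (n : ℤ)).obj Y :=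
      ((singleFunctors C).shiftIso 1 n (n + 1) (by omega)).app Y
    have hq1 := Q_single P Q hQ ((n : ℤ) + 1) Y hY
    have hq := Q_single P Q hQ (n : ℤ) Y hY
    have hqs := Q_iso P Q hQ e.symm hq
    have h1 := clTr_shift Q hq1 hqs (Q_zero P Q hQ)
    have h2 := clTr_iso Q e hqs hq (Q_zero P Q hQ)
    have h3 : KZero.clTr Q ((singleFunctor C ((n : ℤ) + 1)).obj Y) =
        - KZero.clTr Q ((singleFunctor C (n : ℤ)).obj Y) := by
      rw [← h2, h1, neg_neg]
    rw [h3]
    exact neg_mem ih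
  | pred n ih =>
    have e : ((singleFunctor C (-(n : ℤ))).obj Y)⟦(1 : ℤ)⟧ ≅
        (singleFunctor C (-(n : ℤ) - 1)).obj Y :=
      ((singleFunctors C).shiftIso 1 (-(n : ℤ) - 1) (-(n : ℤ)) (by omega)).app Y
    have hq1 := Q_single P Q hQ (-(n : ℤ)) Y hY
    have hq := Q_single P Q hQ (-(n : ℤ) - 1) Y hY
    have hqs := Q_iso P Q hQ e.symm hq
    have h1 := clTr_shift Q hq1 hqs (Q_zero P Q hQ)
    have h2 := clTr_iso Q e hqs hq (Q_zero P Q hQ)
    rw [← h2, h1]
    exact neg_mem ih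

lemma mem_range_zero (a : ℤ) (K : DerivedCategory C) (hK : Q K) [K.IsGE a] [K.IsLE a] :
    KZero.clTr Q K ∈ (phi P Q hQ).range := by
  obtain ⟨Y, ⟨e⟩⟩ := exists_iso_singleFunctor_obj_of_isGE_of_isLE K a
  have hY : P Y := by
    obtain ⟨p, -⟩ := (hQ _).1 hK
    exact P.prop_of_iso ((homologyFunctor C a).mapIso e ≪≫
      (singleFunctorCompHomologyFunctorIso C a).app Y) (p a)
  rw [clTr_iso Q e hK (Q_single P Q hQ a Y hY) (Q_zero P Q hQ)]
  exact single_mem P Q hQ a Y hY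

lemma mem_range : ∀ (n : ℕ) (a : ℤ) (K : DerivedCategory C), Q K → K.IsGE a → K.IsLE (a + n) →
    KZero.clTr Q K ∈ (phi P Q hQ).range := by
  intro n
  induction n with
  | zero =>
    intro a K hK hGE hLE
    haveI := hGE
    haveI : K.IsLE a := TStructure.t.isLE_of_le K (a + ((0 : ℕ) : ℤ)) a (by simp)
    exact mem_range_zero P Q hQ a K hK
  | succ n ih =>
    intro a K hK hGE hLE
    obtain ⟨A, B, hA, hB, f, g, h, hT⟩ :=
      (TStructure.t (C := C)).exists_triangle K (a + n) (a + n + 1) rfl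
    haveI : (Triangle.mk f g h).obj₁.IsLE (a + n) := ⟨hA⟩
    haveI : (Triangle.mk f g h).obj₃.IsGE (a + n + 1) := ⟨hB⟩
    haveI : (Triangle.mk f g h).obj₂.IsGE a := hGE
    haveI : (Triangle.mk f g h).obj₂.IsLE (a + ((n + 1 : ℕ) : ℤ)) := hLE
    obtain ⟨qA, gA⟩ := Q_trunc₁ P Q hQ (Triangle.mk f g h) hT (a + n) a hK
    obtain ⟨qB, lB⟩ := Q_trunc₃ P Q hQ (Triangle.mk f g h) hT (a + n) (a + ((n + 1 : ℕ) : ℤ)) hK
    have hadd := clTr_add Q (Triangle.mk f g h) hT qA hK qB
    change KZero.clTr Q K = KZero.clTr Q A + KZero.clTr Q B at hadd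
    rw [hadd]
    refine add_mem (ih a A qA gA ⟨hA⟩) ?_
    haveI : B.IsGE (a + n + 1) := ⟨hB⟩
    haveI : B.IsLE (a + n + 1) := by
      haveI : B.IsLE (a + ((n + 1 : ℕ) : ℤ)) := lB
      exact TStructure.t.isLE_of_le B (a + ((n + 1 : ℕ) : ℤ)) (a + n + 1) (by push_cast; omega)
    exact mem_range_zero P Q hQ (a + n + 1) B qB

lemma phi_surjective : Function.Surjective (phi P Q hQ) := by
  intro z
  suffices h : z ∈ (phi P Q hQ).range from h
  obtain ⟨y, rfl⟩ := QuotientAddGroup.mk_surjective z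
  induction y using FreeAbelianGroup.induction_on with
  | zero => exact zero_mem _
  | of x =>
    obtain ⟨K, hK⟩ := x
    obtain ⟨-, a, b, hGE, hLE⟩ := (hQ _).1 hK
    haveI := hLE
    have h := mem_range P Q hQ (b - a).toNat a K hK hGE
      (TStructure.t.isLE_of_le K b _ (by have := Int.self_le_toNat (b - a); omega))
    rwa [clTr_eq Q hK] at h
  | neg x hx => exact neg_mem hx
  | add x y hx hy => exact add_mem hx hy

/-- **`K₀(P) ≃ K₀(D^b_P(C))`**. -/
theorem main : ∃ φ : KZero.K0sub P ≃+ KZero.K0tr Q, ∀ X : C, P X →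
    φ (KZero.clSub P X) = KZero.clTr Q ((singleFunctor C 0).obj X) :=
  ⟨AddEquiv.ofBijective (phi P Q hQ)
    ⟨Function.LeftInverse.injective (chi_phi P Q hQ), phi_surjective P Q hQ⟩,
    fun X hX => phi_clSub P Q hQ X hX⟩

end Groth.Agent.Lib.Helper2.K0Der
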