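import Groth.Agent.Lib.Helper2.K0Res.Basic
import Groth.Prelude.Def_KZero
import Mathlib.Algebra.Homology.DerivedCategory.TStructure
import Mathlib.Algebra.Homology.DerivedCategory.SingleTriangle
import Mathlib.Algebra.Homology.DerivedCategory.FullyFaithful
import Mathlib.Algebra.BigOperators.Finprod
import Mathlib.CategoryTheory.ObjectProperty.Kernels
import Mathlib.Data.Int.Interval

/-!
# `K₀(P) ≃ K₀(D^b_P(C))` (helper2)

`P` a class of objects of an abelian category `C`, closed under isomorphisms, containing zero and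
closed under kernels.  `Q` the class of bounded objects of `D(C)` all of whose cohomology lies in
`P`.  Then `X ↦ X[0]` induces an isomorphism `K₀(P) ≃ K₀(Q)`; the inverse is the Euler
characteristic `K ↦ ∑ (-1)^i [H^i K]`.
-/

set_option autoImplicit false
universe w v u

namespace Groth.Agent.Lib.Helper2.K0Der

open CategoryTheory CategoryTheory.Limits Pretriangulated ZeroObject DerivedCategory
open Groth.Agent.Lib.Helper2

/-! ### classes in `K₀(P)` -/

section Ab

variable {C : Type u} [Category.{v} C] [Abelian C] (P : ObjectProperty C)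

lemma clSub_eq {X : C} (h : P X) : KZero.clSub P X = K0Res.cl P X h := by
  unfold KZero.clSub
  rw [dif_pos h]
  rfl

lemma clSub_ses (S : ShortComplex C) (hS : S.ShortExact) (h₁ : P S.X₁) (h₂ : P S.X₂)
    (h₃ : P S.X₃) : KZero.clSub P S.X₂ = KZero.clSub P S.X₁ + KZero.clSub P S.X₃ := by
  rw [clSub_eq P h₁, clSub_eq P h₂, clSub_eq P h₃]
  exact K0Res.cl_add P S hS h₁ h₂ h₃

lemma ses_of_exact (S : ShortComplex C) (hS : S.Exact) :
    (ShortComplex.mk (kernel.ι S.f) (kernel.lift S.g S.f S.zero)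
      (by rw [← cancel_mono (kernel.ι S.g), Category.assoc, kernel.lift_ι, kernel.condition,
        zero_comp])).ShortExact := by
  have w : kernel.ι S.f ≫ kernel.lift S.g S.f S.zero = 0 := by
    rw [← cancel_mono (kernel.ι S.g), Category.assoc, kernel.lift_ι, kernel.condition, zero_comp]
  exact
    { exact := ShortComplex.exact_of_f_is_kernel _
        (isKernelOfComp (f := kernel.lift S.g S.f S.zero) (kernel.ι S.g) S.f (kernelIsKernel S.f) w
          (kernel.lift_ι _ _ _))
      mono_f := inferInstanceAs (Mono (kernel.ι S.f))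
      epi_g := (S.exact_iff_epi_kernel_lift).1 hS }

variable [P.IsClosedUnderIsomorphisms] [P.ContainsZero]

lemma clSub_of_isZero {X : C} (hX : IsZero X) : KZero.clSub P X = 0 := by
  rw [clSub_eq P (P.prop_of_isZero hX),
    K0Res.cl_iso P hX.isoZero (P.prop_of_isZero hX) P.prop_zero P.prop_zero, K0Res.cl_zero]

lemma clSub_iso {X Y : C} (e : X ≅ Y) : KZero.clSub P X = KZero.clSub P Y := by
  by_cases hX : P X
  · have hY : P Y := P.prop_of_iso e hX
    rw [clSub_eq P hX, clSub_eq P hY]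
    exact K0Res.cl_iso P e hX hY P.prop_zero
  · have hY : ¬ P Y := fun h => hX (P.prop_of_iso e.symm h)
    unfold KZero.clSub
    rw [dif_neg hX, dif_neg hY]

variable [P.IsClosedUnderKernels]

lemma clSub_exact (S : ShortComplex C) (hS : S.Exact) (h₁ : P S.X₁) (h₂ : P S.X₂) (h₃ : P S.X₃) :
    KZero.clSub P S.X₁ = KZero.clSub P (kernel S.f) + KZero.clSub P (kernel S.g) :=
  clSub_ses P _ (ses_of_exact S hS) (P.prop_kernel S.f h₁ h₂) h₁ (P.prop_kernel S.g h₂ h₃)

/-! ### signs and telescoping sums -/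

/-- `(-1)^i` as an integer. -/
noncomputable def sgn (i : ℤ) : ℤ := ((i.negOnePow : ℤˣ) : ℤ)

lemma sgn_succ (i : ℤ) : sgn (i + 1) = - sgn i := by
  simp [sgn, Int.negOnePow_succ]

lemma sgn_zero : sgn 0 = 1 := by simp [sgn]

lemma finite_support_of_bdd {M : Type*} [Zero M] (h : ℤ → M) (a b : ℤ)
    (hz : ∀ i, i < a ∨ b < i → h i = 0) : (Function.support h).Finite := by
  refine (Set.finite_Icc a b).subset (fun i hi => ?_)
  by_contra hc
  apply hi
  apply hz
  simp only [Set.mem_Icc, not_and_or, not_le] at hc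
  exact hc

lemma finite_support_sub {M : Type*} [AddGroup M] {f g : ℤ → M} (hf : (Function.support f).Finite)
    (hg : (Function.support g).Finite) : (Function.support fun i => f i - g i).Finite :=
  (hf.union hg).subset (Function.support_sub f g)

lemma finsum_telescope {M : Type*} [AddCommGroup M] (F : ℤ → M)
    (hF : (Function.support F).Finite) : ∑ᶠ i, (F (i + 1) - F i) = 0 := by
  have h1 : (Function.support fun i => F (i + 1)).Finite := by
    have : (fun i => F (i + 1)) = F ∘ (Equiv.addRight (1 : ℤ)) := rfl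
    rw [this, Function.support_comp_eq_preimage]
    exact hF.preimage (Equiv.injective _).injOn
  rw [finsum_sub_distrib h1 hF]
  have := finsum_comp_equiv (Equiv.addRight (1 : ℤ)) (f := F)
  simp only [Equiv.coe_addRight] at this
  rw [this, sub_self]

/-- The alternating sum of the classes of a bounded long exact sequence
`⋯ → A i → B i → D i → A (i+1) → ⋯` vanishes. -/
lemma les_sum {A B D : ℤ → C} (f : ∀ i, A i ⟶ B i) (g : ∀ i, B i ⟶ D i)
    (d : ∀ i, D i ⟶ A (i + 1))
    (w₁ : ∀ i, f i ≫ g i = 0) (w₂ : ∀ i, g i ≫ d i = 0) (w₃ : ∀ i, d i ≫ f (i + 1) = 0)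
    (e₁ : ∀ i, (ShortComplex.mk _ _ (w₁ i)).Exact) (e₂ : ∀ i, (ShortComplex.mk _ _ (w₂ i)).Exact)
    (e₃ : ∀ i, (ShortComplex.mk _ _ (w₃ i)).Exact)
    (hA : ∀ i, P (A i)) (hB : ∀ i, P (B i)) (hD : ∀ i, P (D i))
    (bA : ∃ a b : ℤ, ∀ i, i < a ∨ b < i → IsZero (A i))
    (bB : ∃ a b : ℤ, ∀ i, i < a ∨ b < i → IsZero (B i))
    (bD : ∃ a b : ℤ, ∀ i, i < a ∨ b < i → IsZero (D i)) :
    ∑ᶠ i, sgn i • KZero.clSub P (B i) =
      ∑ᶠ i, sgn i • KZero.clSub P (A i) + ∑ᶠ i, sgn i • KZero.clSub P (D i) := by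
  obtain ⟨a₁, b₁, zA⟩ := bA
  obtain ⟨a₂, b₂, zB⟩ := bB
  obtain ⟨a₃, b₃, zD⟩ := bD
  let F : ℤ → KZero.K0sub P := fun i => sgn i • KZero.clSub P (kernel (f i))
  have sA : (Function.support fun i => sgn i • KZero.clSub P (A i)).Finite :=
    finite_support_of_bdd _ a₁ b₁ (fun i hi => by rw [clSub_of_isZero P (zA i hi), smul_zero])
  have sB : (Function.support fun i => sgn i • KZero.clSub P (B i)).Finite :=
    finite_support_of_bdd _ a₂ b₂ (fun i hi => by rw [clSub_of_isZero P (zB i hi), smul_zero])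
  have sD : (Function.support fun i => sgn i • KZero.clSub P (D i)).Finite :=
    finite_support_of_bdd _ a₃ b₃ (fun i hi => by rw [clSub_of_isZero P (zD i hi), smul_zero])
  have sF : (Function.support F).Finite :=
    finite_support_of_bdd _ a₁ b₁ (fun i hi => by
      have hz : IsZero (kernel (f i)) := IsZero.of_mono (kernel.ι (f i)) (zA i hi)
      change sgn i • KZero.clSub P (kernel (f i)) = 0
      rw [clSub_of_isZero P hz, smul_zero])
  have key : ∀ i, sgn i • KZero.clSub P (B i) - sgn i • KZero.clSub P (A i) -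
      sgn i • KZero.clSub P (D i) = F (i + 1) - F i := by
    intro i
    have E1 := clSub_exact P _ (e₁ i) (hA i) (hB i) (hD i)
    have E2 := clSub_exact P _ (e₂ i) (hB i) (hD i) (hA (i + 1))
    have E3 := clSub_exact P _ (e₃ i) (hD i) (hA (i + 1)) (hB (i + 1))
    dsimp only at E1 E2 E3
    change _ = sgn (i + 1) • KZero.clSub P (kernel (f (i + 1))) -
      sgn i • KZero.clSub P (kernel (f i))
    rw [E1, E2, E3, sgn_succ]
    simp only [smul_add, neg_smul]
    abel
  have h := finsum_telescope F sF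
  rw [← finsum_congr key, finsum_sub_distrib (finite_support_sub sB sA) sD,
    finsum_sub_distrib sB sA] at h
  rw [sub_sub, sub_eq_zero] at h
  exact h

end Ab

/-! ### classes in `K₀` of a triangulated category -/

section Tr

variable {D : Type u} [Category.{v} D] [Preadditive D] [HasZeroObject D] [HasShift D ℤ]
  [∀ n : ℤ, (shiftFunctor D n).Additive] [Pretriangulated D] (Q : ObjectProperty D)

lemma clTr_eq {X : D} (h : Q X) :
    KZero.clTr Q X = QuotientAddGroup.mk (FreeAbelianGroup.of ⟨X, h⟩) := by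
  unfold KZero.clTr
  rw [dif_pos h]

lemma clTr_add (T : Triangle D) (hT : T ∈ distTriang D) (h₁ : Q T.obj₁) (h₂ : Q T.obj₂)
    (h₃ : Q T.obj₃) : KZero.clTr Q T.obj₂ = KZero.clTr Q T.obj₁ + KZero.clTr Q T.obj₃ := by
  rw [clTr_eq Q h₁, clTr_eq Q h₂, clTr_eq Q h₃]
  have hmem : FreeAbelianGroup.of (⟨T.obj₂, h₂⟩ : Subtype Q) - FreeAbelianGroup.of ⟨T.obj₁, h₁⟩ -
      FreeAbelianGroup.of ⟨T.obj₃, h₃⟩ ∈ KZero.relTr Q :=
    AddSubgroup.subset_closure ⟨T, h₁, h₂, h₃, hT, rfl⟩
  have h0 := (QuotientAddGroup.eq_zero_iff _).2 hmem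
  rw [QuotientAddGroup.mk_sub, QuotientAddGroup.mk_sub, sub_sub, sub_eq_zero] at h0
  exact h0

lemma clTr_zero (h0 : Q (0 : D)) : KZero.clTr Q (0 : D) = 0 := by
  have h := clTr_add Q _ (contractible_distinguished (0 : D)) h0 h0 h0
  change KZero.clTr Q (0 : D) = KZero.clTr Q (0 : D) + KZero.clTr Q (0 : D) at h
  simpa using h

lemma clTr_iso {X Y : D} (e : X ≅ Y) (hX : Q X) (hY : Q Y) (h0 : Q (0 : D)) :
    KZero.clTr Q X = KZero.clTr Q Y := by
  have hT : Triangle.mk e.hom (0 : Y ⟶ 0) 0 ∈ distTriang D :=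
    isomorphic_distinguished _ (contractible_distinguished X) _
      (Triangle.isoMk _ _ (Iso.refl _) e.symm (Iso.refl _)
        (by change e.hom ≫ e.inv = 𝟙 X ≫ 𝟙 X; simp)
        (by change (0 : Y ⟶ 0) ≫ 𝟙 0 = e.inv ≫ 0; simp)
        (by change (0 : (0 : D) ⟶ X⟦(1 : ℤ)⟧) ≫ (shiftFunctor D (1 : ℤ)).map (𝟙 X) = 𝟙 0 ≫ 0; simp))
  have h := clTr_add Q _ hT hX hY h0
  change KZero.clTr Q Y = KZero.clTr Q X + KZero.clTr Q (0 : D) at h
  rw [h, clTr_zero Q h0, add_zero]

lemma clTr_shift {K : D} (hK : Q K) (hK1 : Q (K⟦(1 : ℤ)⟧)) (h0 : Q (0 : D)) :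
    KZero.clTr Q (K⟦(1 : ℤ)⟧) = - KZero.clTr Q K := by
  have h := clTr_add Q _ (contractible_distinguished₂ K) hK h0 hK1
  change KZero.clTr Q (0 : D) = KZero.clTr Q K + KZero.clTr Q (K⟦(1 : ℤ)⟧) at h
  rw [clTr_zero Q h0] at h
  exact (neg_eq_of_add_eq_zero_right h.symm).symm

end Tr

end Groth.Agent.Lib.Helper2.K0Der
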