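import Groth.Agent.Lib.Helper2.K0Der.Main

/-!
# `K₀(A) ≃ K₀(⊤)` and `K₀(A) ≃ K₀(D^b(A))` (helper2)
-/

set_option autoImplicit false
universe w v u

namespace Groth.Agent.Lib.Helper2.K0Der

open CategoryTheory CategoryTheory.Limits Pretriangulated ZeroObject DerivedCategory
open Groth.Agent.Lib.Helper2

variable (A : Type u) [Category.{v} A] [Abelian A]

variable {A} in
lemma clAb_add (S : ShortComplex A) (hS : S.ShortExact) :
    KZero.cl S.X₂ = KZero.cl S.X₁ + KZero.cl S.X₃ := by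
  have hmem : FreeAbelianGroup.of S.X₂ - FreeAbelianGroup.of S.X₁ - FreeAbelianGroup.of S.X₃ ∈
      KZero.relAb A := AddSubgroup.subset_closure ⟨S, hS, rfl⟩
  have h0 := (QuotientAddGroup.eq_zero_iff _).2 hmem
  rw [QuotientAddGroup.mk_sub, QuotientAddGroup.mk_sub, sub_sub, sub_eq_zero] at h0
  exact h0

/-- `K₀(A) ⟶ K₀(⊤)`. -/
noncomputable def toSub : KZero.K0 A →+ KZero.K0sub (⊤ : ObjectProperty A) :=
  QuotientAddGroup.lift _ (FreeAbelianGroup.lift fun X : A => KZero.clSub (⊤ : ObjectProperty A) X)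
    (by
      rw [KZero.relAb, AddSubgroup.closure_le]
      rintro x ⟨S, hS, rfl⟩
      change FreeAbelianGroup.lift _ _ = 0
      rw [map_sub, map_sub, FreeAbelianGroup.lift_apply_of, FreeAbelianGroup.lift_apply_of,
        FreeAbelianGroup.lift_apply_of, clSub_ses ⊤ S hS trivial trivial trivial]
      abel)

/-- `K₀(⊤) ⟶ K₀(A)`. -/
noncomputable def ofSub : KZero.K0sub (⊤ : ObjectProperty A) →+ KZero.K0 A :=
  QuotientAddGroup.lift _
    (FreeAbelianGroup.lift fun X : Subtype (⊤ : ObjectProperty A) => KZero.cl X.1) (by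
      rw [KZero.relSub, AddSubgroup.closure_le]
      rintro x ⟨S, h₁, h₂, h₃, hS, rfl⟩
      change FreeAbelianGroup.lift _ _ = 0
      rw [map_sub, map_sub, FreeAbelianGroup.lift_apply_of, FreeAbelianGroup.lift_apply_of,
        FreeAbelianGroup.lift_apply_of]
      change KZero.cl S.X₂ - KZero.cl S.X₁ - KZero.cl S.X₃ = 0
      rw [clAb_add S hS]
      abel)

lemma toSub_cl (X : A) : toSub A (KZero.cl X) = KZero.clSub (⊤ : ObjectProperty A) X := by
  change QuotientAddGroup.lift _ _ _ (QuotientAddGroup.mk _) = _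
  rw [QuotientAddGroup.lift_mk, FreeAbelianGroup.lift_apply_of]

lemma ofSub_cl (X : A) : ofSub A (KZero.clSub (⊤ : ObjectProperty A) X) = KZero.cl X := by
  rw [clSub_eq ⊤ (show (⊤ : ObjectProperty A) X from trivial)]
  change QuotientAddGroup.lift _ _ _ (QuotientAddGroup.mk _) = _
  rw [QuotientAddGroup.lift_mk, FreeAbelianGroup.lift_apply_of]

/-- `K₀(A) ≃ K₀(⊤)`. -/
noncomputable def equivTop : KZero.K0 A ≃+ KZero.K0sub (⊤ : ObjectProperty A) where
  toFun := toSub A
  invFun := ofSub A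
  left_inv z := by
    have hcomp : (ofSub A).comp (toSub A) = AddMonoidHom.id _ := by
      apply QuotientAddGroup.addMonoidHom_ext
      apply FreeAbelianGroup.lift_ext
      intro X
      change ofSub A (toSub A (KZero.cl X)) = KZero.cl X
      rw [toSub_cl, ofSub_cl]
    exact DFunLike.congr_fun hcomp z
  right_inv z := by
    have hcomp : (toSub A).comp (ofSub A) = AddMonoidHom.id _ := by
      apply QuotientAddGroup.addMonoidHom_ext
      apply FreeAbelianGroup.lift_ext
      rintro ⟨X, hX⟩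
      change toSub A (ofSub A (K0Res.cl ⊤ X hX)) = K0Res.cl ⊤ X hX
      rw [← clSub_eq ⊤ hX, ofSub_cl, toSub_cl]
    exact DFunLike.congr_fun hcomp z
  map_add' := map_add _

lemma equivTop_cl (X : A) : equivTop A (KZero.cl X) = KZero.clSub (⊤ : ObjectProperty A) X :=
  toSub_cl A X

/-- **`K₀(A) ≃ K₀(D^b(A))`**. -/
theorem main_top [HasDerivedCategory.{w} A] (Q : ObjectProperty (DerivedCategory A))
    (hQ : ∀ K, Q K ↔ Bdd K) :
    ∃ φ : KZero.K0 A ≃+ KZero.K0tr Q, ∀ X : A,
      φ (KZero.cl X) = KZero.clTr Q ((singleFunctor A 0).obj X) := by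
  obtain ⟨φ, hφ⟩ := main (⊤ : ObjectProperty A) Q
    (fun K => ⟨fun h => ⟨fun _ => trivial, (hQ K).1 h⟩, fun h => (hQ K).2 h.2⟩)
  refine ⟨(equivTop A).trans φ, fun X => ?_⟩
  rw [AddEquiv.trans_apply, equivTop_cl]
  exact hφ X trivial

end Groth.Agent.Lib.Helper2.K0Der
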